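import Cfsg.Agent.Screen.CosetEnum.OrderGlue
import Cfsg.Agent.Screen.CosetEnum.PresSuz
import Cfsg.Agent.Screen.CosetEnum.SuzG24.Checked
import Cfsg.Agent.Screen.CosetEnum.SuzOrd.SuzL2.Checked
import Cfsg.Agent.Screen.CosetEnum.SuzOrd.SuzL1.Checked
import Cfsg.Agent.Screen.CosetEnum.SuzOrd.SuzL0.Checked

/-!
# An upper bound on the order
-/

set_option autoImplicit false
set_option maxRecDepth 20000

namespace Cfsg.Agent.Screen.CosetEnum.SuzOrd

open Cfsg.Agent.Screen.CosetEnum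

/-- Local to global numbering. -/
def mSuzL2 : ℕ → ℕ
  | 0 => 0
  | 1 => 1
  | 2 => 2
  | 3 => 3
  | 4 => 4
  | 5 => 5
  | _ => 7

/-- Local to global numbering. -/
def mSuzL1 : ℕ → ℕ
  | 0 => 0
  | 1 => 1
  | 2 => 2
  | 3 => 3
  | 4 => 4
  | _ => 7

/-- Local to global numbering. -/
def mSuzL0 : ℕ → ℕ
  | 0 => 0
  | 1 => 1
  | 2 => 2
  | 3 => 3
  | _ => 7

/-- Local to global numbering. -/
def mSuzX : ℕ → ℕ
  | 0 => 0
  | 1 => 1
  | 2 => 2
  | 3 => 3
  | 4 => 4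
  | 5 => 5
  | 6 => 6
  | _ => 7

theorem rels_hold {ws : List (List ℕ)} (m : ℕ → ℕ)
    (h : ws.all (fun w => decide (w.map m ∈ PresSuz.relList ++ ([] : List (List ℕ)))) = true) :
    ∀ w ∈ ws, evalW (fun x => PresSuz.gens (m x)) w = 1 := fun w hw => by
  rw [evalW_map]
  rcases List.mem_append.1 (of_decide_eq_true (List.all_eq_true.1 h w hw)) with hm | hm
  · exact PresSuz.gens_rels _ hm
  · exact (fun _ h => absurd h List.not_mem_nil) _ hm

/-- Order bound. -/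
theorem finite_and_card_le : Finite Cfsg.Spor.Suz ∧ Nat.card Cfsg.Spor.Suz ≤ 448345497600 := by
  obtain ⟨f0, b0⟩ := SuzL0.checked.card_le (fun x => PresSuz.gens (mSuzL0 x)) (fun x => PresSuz.gens_sq _)
    (PresSuz.gens_out _ (by decide)) (rels_hold mSuzL0 (by decide +kernel))
    (Subgroup.closure {g | ∃ x < SuzL0.tbl.ng, g = PresSuz.gens (mSuzL0 x)}) ⊥ rfl (closure_nil (fun x => PresSuz.gens (mSuzL0 x))) inferInstance
  rw [Subgroup.card_bot] at b0
  obtain ⟨f1, b1⟩ := SuzL1.checked.card_le (fun x => PresSuz.gens (mSuzL1 x)) (fun x => PresSuz.gens_sq _)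
    (PresSuz.gens_out _ (by decide)) (rels_hold mSuzL1 (by decide +kernel))
    (Subgroup.closure {g | ∃ x < SuzL1.tbl.ng, g = PresSuz.gens (mSuzL1 x)}) _ rfl
    (closure_chain PresSuz.gens mSuzL0 mSuzL1 SuzL0.tbl.ng SuzL1.tbl.subs (by decide +kernel)).symm f0
  obtain ⟨f2, b2⟩ := SuzL2.checked.card_le (fun x => PresSuz.gens (mSuzL2 x)) (fun x => PresSuz.gens_sq _)
    (PresSuz.gens_out _ (by decide)) (rels_hold mSuzL2 (by decide +kernel))
    (Subgroup.closure {g | ∃ x < SuzL2.tbl.ng, g = PresSuz.gens (mSuzL2 x)}) _ rfl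
    (closure_chain PresSuz.gens mSuzL1 mSuzL2 SuzL1.tbl.ng SuzL2.tbl.subs (by decide +kernel)).symm f1
  obtain ⟨fT, bT⟩ := SuzG24.checked.card_le PresSuz.gens PresSuz.gens_sq (PresSuz.gens_out _ (by decide))
    PresSuz.gens_rels ⊤ _ (closure_top PresSuz.gens SuzG24.tbl.ng PresSuz.gens_out PresSuz.gens_top)
    (closure_chain PresSuz.gens mSuzL2 (fun x => x) SuzL2.tbl.ng SuzG24.tbl.subs (by decide +kernel)).symm f2
  haveI := fT
  refine ⟨Finite.of_equiv _ Subgroup.topEquiv.toEquiv, ?_⟩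
  rw [Subgroup.card_top] at bT
  rw [show SuzL0.tbl.n = 2160 from rfl] at b0
  rw [show SuzL1.tbl.n = 280 from rfl] at b1
  rw [show SuzL2.tbl.n = 416 from rfl] at b2
  rw [show SuzG24.tbl.n = 1782 from rfl] at bT
  omega

end Cfsg.Agent.Screen.CosetEnum.SuzOrd
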